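import Groth.Agent.H17.ExtRegVanish.Regular
import Groth.Agent.H10Coh.Local
import Groth.Agent.H10Coh.QCohOps
import Groth.Agent.H10Coh.SchemeH
import Mathlib.RingTheory.Ideal.AssociatedPrime.Basic
import Mathlib.RingTheory.Nakayama

/-!
# Acyclic modules with finite sections on a quasi-affine scheme
-/

set_option autoImplicit false
universe u

open CategoryTheory CategoryTheory.Limits CategoryTheory.Abelian AlgebraicGeometry Opposite TopologicalSpace

noncomputable section

namespace Groth.Agent.H17.AcycQF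

open Groth.Agent.H10Coh Groth.Agent.H06Mod Groth.Agent.H17.ExtRegVanish Groth.Agent.H17.KoszTwist

attribute [local instance 10000] hasSheafifyAb hasWeakSheafifyAb hasExtAb enoughInjAb

variable {U : Scheme.{u}} {C : Type u} [CommRing C] (ρ : C →+* Γ(U, ⊤)) (I : Ideal C)

/-- The opens of elements of `I` form a basis. -/
def Basis : Prop := ∀ (O : U.Opens) (u : U), u ∈ O → ∃ c ∈ I, u ∈ U.basicOpen (ρ c) ∧ U.basicOpen (ρ c) ≤ O

variable {ρ I}

theorem res_top (r : Γ(U, ⊤)) : ExtRegVanish.res ⊤ r = r := by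
  show U.presheaf.map (homOfLE (le_top : (⊤ : U.Opens) ≤ ⊤)).op r = r
  rw [Subsingleton.elim (homOfLE (le_top : (⊤ : U.Opens) ≤ ⊤)).op (𝟙 _), CategoryTheory.Functor.map_id]
  rfl

theorem eq_zero_of_killed (hb : Basis ρ I) (M : U.Modules) (s : Γ(M, ⊤))
    (hs : ∀ c ∈ I, ρ c • s = 0) : s = 0 := by
  have key : ∀ (u : U) (hu : u ∈ (⊤ : U.Opens)),
      M.presheaf.germ ⊤ u hu s = M.presheaf.germ ⊤ u hu 0 := fun u hu => ?_
  · exact TopCat.Presheaf.section_ext (H10Coh.sh M) ⊤ s 0 key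
  obtain ⟨c, hc, huc, -⟩ := hb ⊤ u hu
  rw [map_zero]
  have h : U.presheaf.germ ⊤ u hu (ρ c) • M.presheaf.germ ⊤ u hu s = 0 := by
    rw [← H06Mod.germ_smul, hs c hc, map_zero]
  exact ((Scheme.mem_basicOpen U (ρ c) u hu).1 huc).smul_eq_zero.1 h

theorem exists_germ_frac [CompactSpace U] [QuasiSeparatedSpace U] (hb : Basis ρ I) (M : U.Modules)
    [M.IsQuasicoherent] (u : U) (a : M.presheaf.stalk u) :
    ∃ c : C, IsUnit (U.presheaf.germ ⊤ u trivial (ρ c)) ∧
      ∃ m : Γ(M, ⊤), M.presheaf.germ ⊤ u trivial m = U.presheaf.germ ⊤ u trivial (ρ c) • a := by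
  obtain ⟨O, hO, s, rfl⟩ := M.presheaf.exists_germ_eq a
  obtain ⟨c, -, huc, hcO⟩ := hb O u hO
  obtain ⟨n, m, hm⟩ := H10Coh.exists_pow_smul_eq_res_of_isCompact M (W := ⊤) (by simpa using isCompact_univ)
    (ρ c) (M.presheaf.map (homOfLE hcO).op s)
  refine ⟨c ^ n, ?_, m, ?_⟩
  · rw [map_pow, map_pow]
    exact ((Scheme.mem_basicOpen U (ρ c) u trivial).1 huc).pow n
  · rw [← TopCat.Presheaf.germ_res_apply M.presheaf (homOfLE (U.basicOpen_le (ρ c))) u huc m, hm,
      H06Mod.germ_smul, TopCat.Presheaf.germ_res_apply, TopCat.Presheaf.germ_res_apply, map_pow ρ]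

theorem injective_stalk_mul [CompactSpace U] [QuasiSeparatedSpace U] (hb : Basis ρ I) (M : U.Modules)
    [M.IsQuasicoherent] {r : Γ(U, ⊤)} (hr : ∀ m : Γ(M, ⊤), r • m = 0 → m = 0) (u : U) :
    Function.Injective (stalkLin (mulEnd r M) u) := by
  rw [injective_iff_map_eq_zero]
  intro a ha
  obtain ⟨O, hO, s, rfl⟩ := M.presheaf.exists_germ_eq a
  rw [stalkLin_mulEnd, ← TopCat.Presheaf.germ_res_apply U.presheaf (homOfLE (le_top : O ≤ ⊤)) u hO r,
    ← H06Mod.germ_smul, ← map_zero (M.presheaf.germ O u hO).hom] at ha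
  obtain ⟨W, huW, iW, iW', hW⟩ := M.presheaf.germ_eq u hO hO _ 0 ha
  rw [map_zero] at hW
  obtain ⟨c, -, huc, hcW⟩ := hb W u huW
  let D := U.basicOpen (ρ c)
  let s' : Γ(M, D) := M.presheaf.map (homOfLE (hcW.trans iW.le)).op s
  have h0 : U.presheaf.map (homOfLE (U.basicOpen_le (ρ c))).op r • s' = 0 := by
    have h1 := congrArg (M.presheaf.map (homOfLE hcW).op) hW
    rw [map_zero] at h1
    refine Eq.trans ?_ h1
    rw [show iW = homOfLE iW.le from Subsingleton.elim _ _, mres_mres M iW.le hcW,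
      Scheme.Modules.map_smul]
    congr 1
    exact (rres_rres (le_top : O ≤ ⊤) (hcW.trans iW.le) r).symm
  obtain ⟨n, m, hm⟩ := H10Coh.exists_pow_smul_eq_res_of_isCompact M (W := ⊤) (by simpa using isCompact_univ)
    (ρ c) s'
  have hrm : M.presheaf.map (homOfLE (U.basicOpen_le (ρ c))).op (r • m) = 0 := by
    rw [Scheme.Modules.map_smul, hm, smul_comm, h0, smul_zero]
  obtain ⟨k, hk⟩ := H10Coh.exists_pow_smul_eq_zero_of_isCompact M (W := ⊤) (by simpa using isCompact_univ)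
    (ρ c) _ hrm
  rw [smul_comm] at hk
  have hm0 := hr _ hk
  have hg := congrArg (M.presheaf.germ D u huc) hm
  rw [TopCat.Presheaf.germ_res_apply, H06Mod.germ_smul, TopCat.Presheaf.germ_res_apply, map_pow] at hg
  have hg0 := congrArg (M.presheaf.germ ⊤ u trivial) hm0
  rw [map_zero, H06Mod.germ_smul, map_pow] at hg0
  have hu := (Scheme.mem_basicOpen U (ρ c) u trivial).1 huc
  rw [(hu.pow k).smul_eq_zero.1 hg0] at hg
  rw [← TopCat.Presheaf.germ_res_apply M.presheaf (homOfLE (hcW.trans iW.le)) u huc s]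
  exact (hu.pow n).smul_eq_zero.1 hg.symm

/-- `q : Γ(K) → Γ(K')` is a semilinear surjection with kernel `N` onto the sections of an acyclic module. -/
structure Data (K : U.Modules) where
  K' : U.Modules
  qc : K'.IsQuasicoherent
  acyclic : ∀ n : ℕ, Subsingleton (HnM K' (n + 1) ⊤)
  q : Γ(K, ⊤) →+ Γ(K', ⊤)
  smul_q : ∀ (c : C) m, q (ρ c • m) = ρ c • q m
  surj : Function.Surjective q

variable (K : U.Modules)

theorem step [CompactSpace U] [QuasiSeparatedSpace U] (hb : Basis ρ I) (D : Data (ρ := ρ) K)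
    {x : C} (hx : ∀ m : Γ(D.K', ⊤), ρ x • m = 0 → m = 0) :
    ∃ D' : Data (ρ := ρ) K, ∀ m, D'.q m = 0 ↔ ∃ m', D.q m = ρ x • D.q m' := by
  haveI := D.qc
  haveI : Mono (mulEnd (ρ x) D.K') := mono_of_stalk_injective _ (injective_stalk_mul hb D.K' hx)
  let S := ShortComplex.mk (mulEnd (ρ x) D.K') (cokernel.π (mulEnd (ρ x) D.K')) (cokernel.condition _)
  have hS : S.ShortExact := { exact := ShortComplex.exact_cokernel _ }
  have hS' := H10Coh.shortExact_sh hS
  have hsurj : Function.Surjective (S.g.app ⊤) :=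
    H10Coh.surjective_sections_of_subsingleton hS' ⊤ (D.acyclic 0)
  refine ⟨⟨S.X₃, H10Coh.isQuasicoherent_cokernel _, fun n => ?_,
    (S.g.app ⊤).hom.comp D.q, fun c m => ?_, hsurj.comp D.surj⟩, fun m => ⟨fun h => ?_, ?_⟩⟩
  · refine subsingleton_of_forall_eq 0 fun y => ?_
    haveI := D.acyclic n
    haveI := D.acyclic (n + 1)
    obtain ⟨z, rfl⟩ := Ext.covariant_sequence_exact₃ _ hS' y rfl
      (@Subsingleton.elim (HnM D.K' (n + 2) ⊤) _ _ _)
    rw [show z = 0 from @Subsingleton.elim (HnM D.K' (n + 1) ⊤) _ _ _]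
    simp; rfl
  · show S.g.app ⊤ (D.q (ρ c • m)) = ρ c • S.g.app ⊤ (D.q m)
    rw [D.smul_q, S.g.app_smul]
  · obtain ⟨a, ha⟩ := (H06Mod.exact_sections S hS ⊤).2 (D.q m) h
    obtain ⟨m', rfl⟩ := D.surj a
    refine ⟨m', ha.symm.trans ?_⟩
    show ExtRegVanish.res ⊤ (ρ x) • D.q m' = _
    rw [res_top]
  · rintro ⟨m', hm'⟩
    show S.g.app ⊤ (D.q m) = 0
    have h0 : S.g.app ⊤ (S.f.app ⊤ (D.q m')) = 0 :=
      ConcreteCategory.congr_hom (congrArg (fun φ => Scheme.Modules.Hom.app φ ⊤) S.zero) (D.q m')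
    refine Eq.trans (congrArg (S.g.app ⊤) ?_) h0
    show D.q m = ExtRegVanish.res ⊤ (ρ x) • D.q m'
    rw [hm', res_top]

/-- A coherent-sections acyclic module is killed by some element congruent to one modulo `I`. -/
theorem exists_kills [CompactSpace U] [QuasiSeparatedSpace U] [IsNoetherianRing C] (hb : Basis ρ I)
    [K.IsQuasicoherent] (hH : ∀ n : ℕ, Subsingleton (HnM K (n + 1) ⊤))
    (hfin : letI := Module.compHom Γ(K, ⊤) ρ; Module.Finite C Γ(K, ⊤)) :
    ∃ c : C, c - 1 ∈ I ∧ ∀ (u : U) (t : K.presheaf.stalk u), U.presheaf.germ ⊤ u trivial (ρ c) • t = 0 := by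
  letI := Module.compHom Γ(K, ⊤) ρ
  haveI := hfin
  have key : ∀ (N : Submodule C Γ(K, ⊤)) (D : Data (ρ := ρ) K), (∀ m, D.q m = 0 ↔ m ∈ N) →
      (⊤ : Submodule C Γ(K, ⊤)) ≤ I • ⊤ ⊔ N := by
    intro N
    induction N using WellFoundedGT.induction with
    | ind N ih =>
      intro D hN
      by_cases hN' : N = ⊤
      · exact hN'.ge.trans le_sup_right
      obtain ⟨x, hxI, hx⟩ : ∃ x ∈ I, ∀ m : Γ(K, ⊤), x • m ∈ N → m ∈ N := by
        by_contra hcon
        push Not at hcon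
        have hsub : (I : Set C) ⊆ ⋃ p ∈ associatedPrimes C (Γ(K, ⊤) ⧸ N), (p : Set C) := by
          rw [biUnion_associatedPrimes_eq_zero_divisors]
          intro x hx
          obtain ⟨m, hm, hm'⟩ := hcon x hx
          exact ⟨Submodule.Quotient.mk m, fun h => hm' ((Submodule.Quotient.mk_eq_zero N).1 h),
            (Submodule.Quotient.mk_smul N x m).symm.trans ((Submodule.Quotient.mk_eq_zero N).2 hm)⟩
        obtain ⟨p, hp, hIp⟩ := (Ideal.subset_union_prime_finite (associatedPrimes.finite C _)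
          ⊥ ⊥ fun p hp _ _ => IsAssociatedPrime.isPrime hp).1 hsub
        obtain ⟨hpp, v, rfl⟩ := isAssociatedPrime_iff.1 hp
        obtain ⟨v, rfl⟩ := Submodule.Quotient.mk_surjective N v
        refine hpp.ne_top ((Ideal.eq_top_iff_one _).2 ?_)
        rw [Submodule.mem_colon_singleton, Submodule.mem_bot, one_smul,
          Submodule.Quotient.mk_eq_zero, ← hN]
        refine eq_zero_of_killed hb D.K' _ fun c hc => ?_
        rw [← D.smul_q, hN]
        have h := hIp hc
        rw [Submodule.mem_colon_singleton, Submodule.mem_bot, ← Submodule.Quotient.mk_smul,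
          Submodule.Quotient.mk_eq_zero] at h
        exact h
      have hx' : ∀ m : Γ(D.K', ⊤), ρ x • m = 0 → m = 0 := fun m hm => by
        obtain ⟨m, rfl⟩ := D.surj m
        rw [← D.smul_q, hN] at hm
        exact (hN m).2 (hx m hm)
      obtain ⟨D', hD'⟩ := step K hb D hx'
      let N' : Submodule C Γ(K, ⊤) := N ⊔ LinearMap.range (LinearMap.lsmul C Γ(K, ⊤) x)
      have hN'' : ∀ m, D'.q m = 0 ↔ m ∈ N' := fun m => by
        rw [hD', Submodule.mem_sup]
        constructor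
        · rintro ⟨m', h⟩
          rw [← D.smul_q] at h
          refine ⟨m - x • m', ?_, x • m', ⟨m', rfl⟩, sub_add_cancel _ _⟩
          rw [← hN, map_sub, sub_eq_zero]
          exact h
        · rintro ⟨a, ha, _, ⟨m', rfl⟩, rfl⟩
          refine ⟨m', ?_⟩
          rw [map_add, (hN a).2 ha, zero_add, ← D.smul_q]
          rfl
      have hle : LinearMap.range (LinearMap.lsmul C Γ(K, ⊤) x) ≤ I • ⊤ := by
        rintro _ ⟨m', rfl⟩
        exact Submodule.smul_mem_smul hxI Submodule.mem_top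
      by_cases hlt : N < N'
      · exact (ih N' hlt D' hN'').trans (sup_le le_sup_left (sup_le le_sup_right (hle.trans le_sup_left)))
      · exfalso
        have heq : N' = N := le_antisymm (not_lt_iff_le_imp_ge.1 hlt le_sup_left) le_sup_left
        refine hN' (Submodule.eq_top_iff'.2 fun m => hx m ?_)
        rw [← heq]
        exact Submodule.mem_sup_right ⟨m, rfl⟩
  let D₀ : Data (ρ := ρ) K := ⟨K, inferInstance, hH, AddMonoidHom.id _, fun _ _ => rfl, fun m => ⟨m, rfl⟩⟩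
  have h := key ⊥ D₀ fun m => (Submodule.mem_bot C).symm
  rw [sup_bot_eq] at h
  obtain ⟨c, hc, hkill⟩ := Submodule.exists_sub_one_mem_and_smul_eq_zero_of_fg_of_le_smul I
    (⊤ : Submodule C Γ(K, ⊤)) Module.Finite.fg_top h
  refine ⟨c, hc, fun u t => ?_⟩
  obtain ⟨c', hc', m, hm⟩ := exists_germ_frac hb K u t
  refine hc'.smul_eq_zero.1 ?_
  rw [smul_comm, ← hm, ← H06Mod.germ_smul]
  exact (congrArg _ (hkill m Submodule.mem_top)).trans (map_zero _)

end Groth.Agent.H17.AcycQF
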